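import Groth.Agent.H20Comod.Stability
import Groth.Agent.H19Grp.HopfReduced
import Groth.Prelude.Def_GLin6
import Mathlib.Data.Nat.Choose.Multinomial
import Mathlib.Algebra.MvPolynomial.Funext

/-!
Forms acted on by substitution through a homomorphism to the matrix monoid: how rational points move
forms, the form of a moved point, invariance tested on rational points; points of `GL_n` and `SL_n`.
-/

set_option autoImplicit false

universe u

open TensorProduct MvPolynomial

namespace Groth.Agent.H20Forms

noncomputable section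

open CoordGrp

section Ring

variable {k : Type u} [CommRing k] {n d : ℕ}

/-- Substitution `x_i ↦ Σ_j M j i x_j`. -/
def subst (M : Matrix (Fin n) (Fin n) k) : MvPolynomial (Fin n) k →ₐ[k] MvPolynomial (Fin n) k :=
  MvPolynomial.aeval fun i => ∑ j, MvPolynomial.C (M j i) * MvPolynomial.X j

/-- The functional on polynomials given by a point of the space of forms. -/
def pair (a : FormIdx n d → k) : MvPolynomial (Fin n) k →ₗ[k] k :=
  ∑ l : FormIdx n d, a l • MvPolynomial.lcoeff k l.1

/-- The point `a` moved by the matrix `M`. -/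
def move (M : Matrix (Fin n) (Fin n) k) (a : FormIdx n d → k) : FormIdx n d → k :=
  fun m => pair a (subst M (MvPolynomial.monomial m.1 1))

theorem pair_apply (a : FormIdx n d → k) (p : MvPolynomial (Fin n) k) :
    pair a p = ∑ l : FormIdx n d, a l * p.coeff l.1 := by
  simp [pair]

theorem pair_monomial (a : FormIdx n d → k) (m : FormIdx n d) : pair a (MvPolynomial.monomial m.1 1) = a m := by
  classical
  rw [pair_apply, Finset.sum_eq_single m]
  · simp
  · intro l _ hl
    rw [MvPolynomial.coeff_monomial, if_neg fun h => hl (Subtype.ext h).symm, mul_zero]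
  · intro h; exact absurd (Finset.mem_univ _) h

theorem subst_X (M : Matrix (Fin n) (Fin n) k) (i : Fin n) :
    subst M (MvPolynomial.X i) = ∑ j, MvPolynomial.C (M j i) * MvPolynomial.X j := by
  simp [subst]

theorem subst_mul (M N : Matrix (Fin n) (Fin n) k) : subst (M * N) = (subst M).comp (subst N) := by
  refine MvPolynomial.algHom_ext fun i => ?_
  rw [AlgHom.comp_apply, subst_X, subst_X, map_sum]
  simp only [map_mul, subst_X, MvPolynomial.algHom_C, Finset.mul_sum, Matrix.mul_apply, map_sum, Finset.sum_mul]
  rw [Finset.sum_comm]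
  refine Finset.sum_congr rfl fun j _ => Finset.sum_congr rfl fun l _ => ?_
  simp only [MvPolynomial.algebraMap_eq]
  ring

theorem subst_one : subst (1 : Matrix (Fin n) (Fin n) k) = AlgHom.id k _ := by
  refine MvPolynomial.algHom_ext fun i => ?_
  rw [subst_X, AlgHom.id_apply, Finset.sum_eq_single i] <;> simp +contextual [Matrix.one_apply]

theorem isHomogeneous_subst (M : Matrix (Fin n) (Fin n) k) {p : MvPolynomial (Fin n) k} {e : ℕ}
    (hp : p.IsHomogeneous e) : (subst M p).IsHomogeneous e := by
  have := hp.aeval (fun i => ∑ j, MvPolynomial.C (M j i) * MvPolynomial.X j) (n := 1)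
    fun i => MvPolynomial.IsHomogeneous.sum _ _ _ fun j _ => (MvPolynomial.isHomogeneous_X k j).C_mul _
  rw [one_mul] at this
  exact this

theorem pair_move (M : Matrix (Fin n) (Fin n) k) (a : FormIdx n d → k) {p : MvPolynomial (Fin n) k}
    (hp : p.IsHomogeneous d) : pair (move M a) p = pair a (subst M p) := by
  classical
  conv_rhs => rw [p.as_sum]
  conv_lhs => rw [p.as_sum]
  simp only [map_sum]
  refine Finset.sum_congr rfl fun m hm => ?_
  have hdeg : m.degree = d := by
    have := hp (MvPolynomial.mem_support_iff.1 hm)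
    rw [Finsupp.degree_eq_weight_one]
    exact this
  rw [show MvPolynomial.monomial m (p.coeff m) = p.coeff m • MvPolynomial.monomial (⟨m, hdeg⟩ : FormIdx n d).1 (1 : k) by
      rw [MvPolynomial.smul_monomial, smul_eq_mul, mul_one]]
  rw [map_smul, pair_monomial, map_smul, map_smul]
  rfl

theorem move_move (M N : Matrix (Fin n) (Fin n) k) (a : FormIdx n d → k) : move M (move N a) = move (N * M) a := by
  funext m
  show pair (move N a) (subst M (MvPolynomial.monomial m.1 1)) = _
  rw [pair_move N a (isHomogeneous_subst M (MvPolynomial.isHomogeneous_monomial 1 m.2))]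
  show _ = pair a (subst (N * M) (MvPolynomial.monomial m.1 1))
  rw [subst_mul, AlgHom.comp_apply]

theorem move_one (a : FormIdx n d → k) : move (1 : Matrix (Fin n) (Fin n) k) a = a := by
  funext m
  show pair a (subst 1 _) = _
  rw [subst_one, AlgHom.id_apply, pair_monomial]

theorem move_smul (M : Matrix (Fin n) (Fin n) k) (c : k) (a : FormIdx n d → k) : move M (c • a) = c • move M a := by
  funext m
  simp only [move, pair_apply, Pi.smul_apply, smul_eq_mul, Finset.mul_sum, mul_assoc]

theorem subst_map {K : Type*} [CommRing K] (f : k →+* K) (M : Matrix (Fin n) (Fin n) k) (p : MvPolynomial (Fin n) k) :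
    MvPolynomial.map f (subst M p) = subst (M.map f) (MvPolynomial.map f p) := by
  induction p using MvPolynomial.induction_on with
  | C c => simp [subst]
  | add p q hp hq => simp only [map_add, hp, hq]
  | mul_X p i hp => simp only [map_mul, hp, MvPolynomial.map_X, subst_X, map_sum, MvPolynomial.map_C, Matrix.map_apply]

theorem map_move {K : Type*} [CommRing K] (f : k →+* K) (M : Matrix (Fin n) (Fin n) k) (a : FormIdx n d → k)
    (m : FormIdx n d) : f (move M a m) = move (M.map f) (fun l => f (a l)) m := by
  simp only [move, pair_apply, map_sum, map_mul]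
  refine Finset.sum_congr rfl fun l _ => ?_
  rw [← MvPolynomial.coeff_map, subst_map, MvPolynomial.map_monomial, map_one]

end Ring

variable {k : Type u} [Field k] {n d : ℕ}

theorem eval_formPoly (a : FormIdx n d → k) (y : Fin n → k) :
    MvPolynomial.eval y (formPoly a) = pair a ((∑ i, MvPolynomial.C (y i) * MvPolynomial.X i) ^ d) := by
  classical
  rw [pair_apply, formPoly, map_sum]
  refine Finset.sum_congr rfl fun m _ => ?_
  rw [MvPolynomial.eval_monomial, Finset.sum_pow_eq_sum_piAntidiag, MvPolynomial.coeff_sum]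
  rw [Finset.sum_eq_single (m.1 : Fin n → ℕ)]
  · rw [Finsupp.multinomial_eq_of_support_subset (Finset.subset_univ _), ← MvPolynomial.C_eq_coe_nat,
      MvPolynomial.coeff_C_mul]
    simp only [mul_pow, Finset.prod_mul_distrib, ← map_pow, ← map_prod, MvPolynomial.coeff_C_mul]
    rw [show (∏ i, (MvPolynomial.X i : MvPolynomial (Fin n) k) ^ m.1 i) = MvPolynomial.monomial m.1 1 by
        rw [← MvPolynomial.prod_X_pow_eq_monomial]
        exact (Finset.prod_subset (Finset.subset_univ _) fun i _ hi => by
          rw [Finsupp.notMem_support_iff.1 hi, pow_zero]).symm,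
      MvPolynomial.coeff_monomial, if_pos rfl, mul_one, Finsupp.prod_fintype _ _ fun i => pow_zero _]
    ring
  · intro l hl hlm
    rw [← MvPolynomial.C_eq_coe_nat, MvPolynomial.coeff_C_mul]
    simp only [mul_pow, Finset.prod_mul_distrib, ← map_pow, ← map_prod, MvPolynomial.coeff_C_mul]
    rw [show (∏ i, (MvPolynomial.X i : MvPolynomial (Fin n) k) ^ l i) =
        MvPolynomial.monomial (Finsupp.equivFunOnFinite.symm l) 1 by
        rw [← MvPolynomial.prod_X_pow_eq_monomial]
        exact (Finset.prod_subset (Finset.subset_univ _) fun i _ hi => by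
          have h0 : l i = 0 := Finsupp.notMem_support_iff.1 hi
          rw [h0, pow_zero]).symm.trans rfl,
      MvPolynomial.coeff_monomial, if_neg, mul_zero, mul_zero]
    intro h
    exact hlm (by rw [← h]; rfl)
  · intro h
    refine absurd (Finset.mem_piAntidiag.2 ⟨?_, fun i _ => Finset.mem_univ i⟩) h
    have := m.2
    rw [Finsupp.degree_eq_sum] at this
    exact this

theorem eval_formPoly_move [Infinite k] (M : Matrix (Fin n) (Fin n) k) (a : FormIdx n d → k) (y : Fin n → k) :
    MvPolynomial.eval y (formPoly (move M a)) = MvPolynomial.eval (M.mulVec y) (formPoly a) := by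
  have hL : ((∑ i, MvPolynomial.C (y i) * MvPolynomial.X i : MvPolynomial (Fin n) k) ^ d).IsHomogeneous d := by
    have := (MvPolynomial.IsHomogeneous.sum (φ := fun i => MvPolynomial.C (y i) * MvPolynomial.X i) Finset.univ 1
      fun j _ => (MvPolynomial.isHomogeneous_X k j).C_mul _).pow d
    simpa using this
  rw [eval_formPoly, eval_formPoly, pair_move M a hL, map_pow, map_sum]
  congr 2
  simp only [map_mul, MvPolynomial.algHom_C, subst_X, Matrix.mulVec, dotProduct, map_sum, Finset.sum_mul, Finset.mul_sum,
    MvPolynomial.algebraMap_eq]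
  rw [Finset.sum_comm]
  exact Finset.sum_congr rfl fun j _ => Finset.sum_congr rfl fun l _ => by ring

theorem formPoly_move [Infinite k] (M : Matrix (Fin n) (Fin n) k) (a : FormIdx n d → k) :
    formPoly (move M a) = subst M.transpose (formPoly a) := by
  refine MvPolynomial.funext fun y => ?_
  rw [eval_formPoly_move, subst, ← MvPolynomial.aeval_eq_eval, ← MvPolynomial.aeval_eq_eval, ← AlgHom.comp_apply,
    MvPolynomial.comp_aeval]
  congr 2
  funext i
  simp [Matrix.mulVec, dotProduct]

theorem isHomogeneous_formPoly (a : FormIdx n d → k) : (formPoly a).IsHomogeneous d :=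
  MvPolynomial.IsHomogeneous.sum _ _ _ fun m _ => MvPolynomial.isHomogeneous_monomial _ m.2

theorem multinomial_ne_zero (hd : (d.factorial : k) ≠ 0) (m : FormIdx n d) : (m.1.multinomial : k) ≠ 0 := by
  intro h
  refine hd ?_
  have h1 := Nat.multinomial_spec (s := (Finset.univ : Finset (Fin n))) (f := m.1)
  rw [← Finsupp.multinomial_eq_of_support_subset (Finset.subset_univ _), ← Finsupp.degree_eq_sum, m.2] at h1
  rw [← h1, Nat.cast_mul, h, mul_zero]

theorem formPoly_injective (hd : (d.factorial : k) ≠ 0) : Function.Injective (formPoly : (FormIdx n d → k) → _) := by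
  intro a b h
  funext m
  have := congrArg (MvPolynomial.coeff m.1) h
  rw [coeff_formPoly, coeff_formPoly] at this
  exact mul_left_cancel₀ (multinomial_ne_zero hd m) this

theorem exists_formPoly_eq (hd : (d.factorial : k) ≠ 0) {p : MvPolynomial (Fin n) k} (hp : p.IsHomogeneous d) :
    ∃ a : FormIdx n d → k, formPoly a = p := by
  classical
  refine ⟨fun m => (m.1.multinomial : k)⁻¹ * p.coeff m.1, MvPolynomial.ext _ _ fun m => ?_⟩
  by_cases hm : m.degree = d
  · rw [show m = (⟨m, hm⟩ : FormIdx n d).1 from rfl, coeff_formPoly, mul_inv_cancel_left₀ (multinomial_ne_zero hd _)]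
  · rw [hp.coeff_eq_zero hm, (isHomogeneous_formPoly _).coeff_eq_zero hm]

section Action

variable {A : Type u} [CommRing A] [Bialgebra k A] (φ : Mat n k →ₐc[k] A)

variable (d) in
/-- The action on forms through `φ`. -/
@[reducible] def act : HopfRep.Comod k A (FormRing k n d) := GLin.comodAlong φ (formsCoact k n d)

theorem isCoactAlg_act : @GLin.IsCoactAlg k _ A _ _ (FormRing k n d) _ _ (act d φ) :=
  GLin.isCoactAlg_comodAlong φ (formsCoact k n d) (formsCoact_isCoactAlg k n d)

/-- The matrix of a rational point. -/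
def matOf (g : A →ₐ[k] k) : Matrix (Fin n) (Fin n) k := fun i j => g (φ (Mat.X i j))

theorem coeffT_point (ψ : Mat n k →ₐ[k] k) (l : Fin n →₀ ℕ) (w : MvPolynomial (Fin n) k ⊗[k] Mat n k) :
    ψ (coeffT (k := k) l w) = MvPolynomial.coeff l
      (Algebra.TensorProduct.rid k k (MvPolynomial (Fin n) k) (Algebra.TensorProduct.map (AlgHom.id k _) ψ w)) := by
  induction w using TensorProduct.induction_on with
  | zero => simp
  | tmul p a => simp [Algebra.TensorProduct.rid_tmul, MvPolynomial.coeff_smul, mul_comm]
  | add x y hx hy => simp only [map_add, MvPolynomial.coeff_add, hx, hy]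

theorem apply_formCoeff (g : A →ₐ[k] k) (l m : FormIdx n d) :
    g (φ (formCoeff k n d l m)) = (subst (matOf φ g) (MvPolynomial.monomial m.1 1)).coeff l.1 := by
  show (g.comp (φ : Mat n k →ₐ[k] A)) _ = _
  rw [formCoeff_def, coeffT_point]
  congr 1
  have h : (Algebra.TensorProduct.rid k k (MvPolynomial (Fin n) k)).toAlgHom.comp
      ((Algebra.TensorProduct.map (AlgHom.id k _) (g.comp (φ : Mat n k →ₐ[k] A))).comp (stdCoactAlg n k)) =
      subst (matOf φ g) := by
    refine MvPolynomial.algHom_ext fun i => ?_
    simp [subst_X, matOf, MvPolynomial.smul_eq_C_mul]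
  exact AlgHom.congr_fun h _

theorem orbitHom_X (a : FormIdx n d → k) (m : FormIdx n d) :
    @GLin.orbitHom k _ A _ _ (FormRing k n d) _ _ (act d φ) (isCoactAlg_act φ) (GLin.vecPt k _ a) (MvPolynomial.X m) =
      ∑ l, a l • φ (formCoeff k n d l m) := by
  show Algebra.TensorProduct.lid k A (Algebra.TensorProduct.map (GLin.vecPt k _ a) (AlgHom.id k A)
    (TensorProduct.map LinearMap.id (φ : Mat n k →ₗ[k] A) (formsCoactAlg k n d (MvPolynomial.X m)))) = _
  rw [formsCoactAlg_X]
  simp

theorem actPt_vecPt (g : A →ₐ[k] k) (a : FormIdx n d → k) :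
    @GLin.actPt k _ A _ _ (FormRing k n d) _ _ (act d φ) (isCoactAlg_act φ) g (GLin.vecPt k _ a) =
      GLin.vecPt k _ (move (matOf φ g) a) := by
  refine MvPolynomial.algHom_ext fun m => ?_
  show g (@GLin.orbitHom k _ A _ _ (FormRing k n d) _ _ (act d φ) (isCoactAlg_act φ) (GLin.vecPt k _ a) (MvPolynomial.X m)) = _
  rw [orbitHom_X, map_sum, MvPolynomial.aeval_X, move, pair_apply]
  exact Finset.sum_congr rfl fun l _ => by rw [map_smul, apply_formCoeff, smul_eq_mul]

theorem eq_zero_of_points [IsAlgClosed k] [Algebra.FiniteType k A] [IsReduced A] {R : Type u} [AddCommGroup R] [Module k R]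
    [Module.Free k R] (z : R ⊗[k] A) (h : ∀ g : A →ₐ[k] k, g.toLinearMap.lTensor R z = 0) : z = 0 := by
  let b := Module.Free.chooseBasis k R
  refine (TensorProduct.equivFinsuppOfBasisLeft b).injective (Finsupp.ext fun i => ?_)
  rw [map_zero, Finsupp.zero_apply, TensorProduct.equivFinsuppOfBasisLeft_apply]
  by_contra hne
  obtain ⟨M, hM, haM⟩ : ∃ M : Ideal A, M.IsPrime ∧ TensorProduct.lid k A ((b.coord i).rTensor A z) ∉ M := by
    by_contra hc
    push Not at hc
    exact hne (IsReduced.eq_zero _ (nilpotent_iff_mem_prime.2 fun J hJ => hc J hJ))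
  obtain ⟨g, -, hg⟩ := H20Comod.OrbitPrimes.exists_point_notMem (k := k) M haM
  refine hg ?_
  have hnat : ∀ w : R ⊗[k] A, g (TensorProduct.lid k A ((b.coord i).rTensor A w)) =
      b.coord i (TensorProduct.rid k R (g.toLinearMap.lTensor R w)) := fun w => by
    induction w using TensorProduct.induction_on with
    | zero => simp
    | tmul r a => simp [mul_comm]
    | add x y hx hy => simp only [map_add, hx, hy]
  rw [hnat, h, map_zero, map_zero]

theorem mem_invariants_iff_forall_move [IsAlgClosed k] [Algebra.FiniteType k A] [IsReduced A] (F : FormRing k n d) :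
    F ∈ @GLin.invariants k _ A _ _ (FormRing k n d) _ _ (act d φ) (isCoactAlg_act φ) ↔
      ∀ (g : A →ₐ[k] k) (a : FormIdx n d → k), MvPolynomial.eval (move (matOf φ g) a) F = MvPolynomial.eval a F := by
  letI := act d φ
  haveI := isCoactAlg_act (d := d) φ
  have key : ∀ (g : A →ₐ[k] k) (a : FormIdx n d → k),
      MvPolynomial.eval (move (matOf φ g) a) F =
        MvPolynomial.eval a (TensorProduct.rid k _ (g.toLinearMap.lTensor _ (HopfRep.Comod.coact (k := k) (A := A) F))) := by
    intro g a
    rw [← MvPolynomial.aeval_eq_eval, ← MvPolynomial.aeval_eq_eval]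
    refine (AlgHom.congr_fun (actPt_vecPt φ g a) F).symm.trans ?_
    show g (Algebra.TensorProduct.lid k A (Algebra.TensorProduct.map (GLin.vecPt k _ a) (AlgHom.id k A)
      (HopfRep.Comod.coact (k := k) (A := A) F))) = _
    generalize HopfRep.Comod.coact (k := k) (A := A) F = w
    induction w using TensorProduct.induction_on with
    | zero => simp
    | tmul r a' => simp [mul_comm]
    | add x y hx hy => simp only [map_add, hx, hy]
  constructor
  · intro hF g a
    rw [key, (GLin.mem_invariants_iff k A _ F).1 hF]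
    simp
  · intro h
    rw [GLin.mem_invariants_iff, ← sub_eq_zero]
    refine eq_zero_of_points _ fun g => ?_
    refine (TensorProduct.rid k _).injective (MvPolynomial.funext fun a => ?_)
    rw [map_sub, map_sub, map_sub, ← key, h, map_zero, map_zero]
    simp

end Action

section Groups

instance finiteType_GLb (k : Type u) [CommRing k] (n : ℕ) : Algebra.FiniteType k (GLb n k) :=
  inferInstanceAs (Algebra.FiniteType k (MvPolynomial (GLPoly.Idx n) k))

instance finiteType_GLn (k : Type u) [CommRing k] (n : ℕ) : Algebra.FiniteType k (GLn n k) :=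
  Algebra.FiniteType.of_surjective (R := k) (GLn.mk n k) Ideal.Quotient.mk_surjective

instance finiteType_SLn (k : Type u) [CommRing k] (n : ℕ) : Algebra.FiniteType k (SLn n k) :=
  Algebra.FiniteType.of_surjective (R := k) (SLn.mk n k) Ideal.Quotient.mk_surjective

theorem isReduced_GLn [IsAlgClosed k] [CharZero k] : IsReduced (GLn n k) :=
  H19Grp.HopfReduced.isReduced (k := k) (A := GLn n k)

theorem isReduced_SLn [IsAlgClosed k] [CharZero k] : IsReduced (SLn n k) :=
  H19Grp.HopfReduced.isReduced (k := k) (A := SLn n k)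

variable (k n) in
/-- The homomorphism `SL_n → M_n`. -/
abbrev slHom : Mat n k →ₐc[k] SLn n k := (SLn.mkHom n k).comp (Mat.toGLn n k)

theorem matOf_gl (g : GLn n k →ₐ[k] k) (i j : Fin n) : matOf (Mat.toGLn n k) g i j = g (GLn.X i j) :=
  congrArg g (Mat.toGLn_X i j)

theorem matOf_sl (g : SLn n k →ₐ[k] k) (i j : Fin n) : matOf (slHom k n) g i j = g (SLn.X i j) :=
  congrArg g (congrArg (SLn.mk n k) (Mat.toGLn_X i j))

theorem matOf_glPt (M : Matrix (Fin n) (Fin n) k) (hM : M.det ≠ 0) :
    matOf (Mat.toGLn n k) (GLn.pt n k M M.det⁻¹ (mul_inv_cancel₀ hM)) = M := by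
  funext i j
  rw [matOf_gl, GLn.pt_X]

theorem matOf_slPt (M : Matrix (Fin n) (Fin n) k) (hM : M.det = 1) :
    matOf (slHom k n) (SLn.pt n k M hM) = M := by
  funext i j
  rw [matOf_sl, SLn.pt_X]

theorem det_matOf_sl (g : SLn n k →ₐ[k] k) : (matOf (slHom k n) g).det = 1 := by
  have h : matOf (slHom k n) g = (g.comp (SLn.mk n k)).mapMatrix (GLn.genMat n k) := by
    ext i j
    rw [matOf_sl]
    rfl
  rw [h, ← AlgHom.map_det, ← GLn.det_eq, AlgHom.comp_apply, SLn.det_eq_one, map_one]

theorem mem_invariants_sl_iff [IsAlgClosed k] [CharZero k] (F : FormRing k n d) :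
    F ∈ @GLin.invariants k _ (SLn n k) _ _ (FormRing k n d) _ _ (act d (slHom k n)) (isCoactAlg_act (slHom k n)) ↔
      ∀ M : Matrix (Fin n) (Fin n) k, M.det = 1 → ∀ a : FormIdx n d → k,
        MvPolynomial.eval (move M a) F = MvPolynomial.eval a F := by
  haveI := isReduced_SLn (k := k) (n := n)
  rw [mem_invariants_iff_forall_move]
  constructor
  · intro h M hM a
    have := h (SLn.pt n k M hM) a
    rwa [matOf_slPt] at this
  · exact fun h g a => h _ (det_matOf_sl g) a

end Groups

end

end Groth.Agent.H20Forms
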