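import Groth.Agent.H20Forms.Cubic

/-!
Binary forms: destabilising subgroups and multiple roots.
-/

set_option autoImplicit false

universe u

open MvPolynomial CoordGrp

namespace Groth.Agent.H20Forms

noncomputable section

variable {k : Type u} [Field k] [IsAlgClosed k] {d : ℕ}

theorem exists_root_of_weights (a : FormIdx 2 d → k) (θ : ℕ) (hθ : θ ≤ 1) (M₀ : Matrix (Fin 2) (Fin 2) k)
    (hM₀ : M₀.det = 1) (r₀ : Fin 2 → ℤ) (hr₀ : ∑ i, r₀ i = 0) (hne : r₀ ≠ 0)
    (hw : ∀ m, move M₀ a m ≠ 0 → (θ : ℤ) ≤ weight r₀ m) :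
    ∃ ℓ : MvPolynomial (Fin 2) k, ℓ.IsHomogeneous 1 ∧ ℓ ≠ 0 ∧ ∃ m : ℕ, ℓ ^ m ∣ formPoly a ∧ d + θ ≤ 2 * m := by
  classical
  obtain ⟨P, hP, hperm⟩ := exists_permuted (k := k) (n := 2) (d := d) (by norm_num) (Tuple.sort r₀)
  let r : Fin 2 → ℤ := r₀ ∘ Tuple.sort r₀
  have hmono : Monotone r := Tuple.monotone_sort r₀
  set M := M₀ * P with hMdef
  have hM : M.det = 1 := by rw [Matrix.det_mul, hM₀, hP, one_mul]
  have hsum : r 0 + r 1 = 0 := by
    rw [← Fin.sum_univ_two r]
    exact (Equiv.sum_comp (Tuple.sort r₀) r₀).trans hr₀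
  have h01 : r 0 ≤ r 1 := hmono (by decide)
  have hs : 0 < r 1 := by
    by_contra h
    refine hne (funext fun i => ?_)
    have hr : ∀ j, r j = 0 := fun j => by fin_cases j <;> simp <;> omega
    simpa [r] using hr ((Tuple.sort r₀).symm i)
  refine ⟨subst M.adjugate.transpose (X 1), isHomogeneous_subst _ (isHomogeneous_X k 1), fun h => ?_, (d + θ + 1) / 2, ?_, by omega⟩
  · have := congrArg (subst M.transpose) h
    rw [← AlgHom.comp_apply, ← subst_mul, ← Matrix.transpose_mul, Matrix.adjugate_mul, hM, one_smul, Matrix.transpose_one,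
      subst_one, AlgHom.id_apply, map_zero] at this
    exact X_ne_zero (1 : Fin 2) this
  have hdvd : (X 1 : MvPolynomial (Fin 2) k) ^ ((d + θ + 1) / 2) ∣ formPoly (move M a) := by
    rw [(formPoly (move M a)).as_sum]
    refine Finset.dvd_sum fun m hm => ?_
    rw [X_pow_eq_monomial]
    refine monomial_dvd_monomial.2 ⟨Or.inr ?_, one_dvd _⟩
    obtain ⟨hdeg, hwt⟩ : m.degree = d ∧ (θ : ℤ) ≤ ∑ i, r i * (m i : ℤ) := by
      have hc := mem_support_iff.1 hm
      have hdeg : m.degree = d := by_contra fun hne => hc ((isHomogeneous_formPoly _).coeff_eq_zero hne)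
      refine ⟨hdeg, ?_⟩
      rw [show m = (⟨m, hdeg⟩ : FormIdx 2 d).1 from rfl, coeff_formPoly] at hc
      exact hperm _ r₀ θ hw ⟨m, hdeg⟩ (by rw [move_move]; exact right_ne_zero_of_mul hc)
    rw [Finsupp.degree_eq_sum, Fin.sum_univ_two] at hdeg
    rw [Fin.sum_univ_two, show r 0 = -r 1 by omega] at hwt
    rw [Finsupp.single_le_iff]
    by_contra hlt
    have hdiff : (m 1 : ℤ) - m 0 + 1 ≤ θ := by omega
    have : r 1 * ((m 1 : ℤ) - m 0) ≤ r 1 * ((θ : ℤ) - 1) := mul_le_mul_of_nonneg_left (by omega) hs.le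
    rcases (show θ = 0 ∨ θ = 1 by omega) with rfl | rfl
    · push_cast at this hwt ⊢; nlinarith
    · push_cast at this hwt ⊢; nlinarith
  have h := map_dvd (subst M.adjugate.transpose) hdvd
  rwa [map_pow, formPoly_move, ← AlgHom.comp_apply, ← subst_mul, ← Matrix.transpose_mul, Matrix.mul_adjugate, hM,
    one_smul, Matrix.transpose_one, subst_one, AlgHom.id_apply] at h

theorem exists_weights_of_root [CharZero k] (a : FormIdx 2 d → k) (θ : ℕ) (ℓ : MvPolynomial (Fin 2) k)
    (hℓ : ℓ.IsHomogeneous 1) (hℓ0 : ℓ ≠ 0) (m : ℕ) (hdvd : ℓ ^ m ∣ formPoly a) (hm : d + θ ≤ 2 * m) :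
    ∃ M₀ : Matrix (Fin 2) (Fin 2) k, M₀.det = 1 ∧ ∃ r : Fin 2 → ℤ, ∑ i, r i = 0 ∧ r ≠ 0 ∧
      ∀ e, move M₀ a e ≠ 0 → (θ : ℤ) ≤ weight r e := by
  classical
  set q : Fin 2 → k := fun j => ℓ.coeff (Finsupp.single j 1) with hq
  have hℓeq : ℓ = ∑ j, C (q j) * X j := by
    refine MvPolynomial.ext _ _ fun e => ?_
    by_cases he : e.degree = 1
    · obtain ⟨j, rfl⟩ := exists_eq_single_of_sum_eq_one ((Finsupp.degree_eq_sum e).symm.trans he)
      rw [coeff_sum, Finset.sum_eq_single j]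
      · simp [hq]
      · intro i _ hi
        rw [coeff_C_mul, coeff_X', if_neg fun hh => hi (Finsupp.single_left_injective one_ne_zero hh), mul_zero]
      · simp
    · rw [hℓ.coeff_eq_zero he, IsHomogeneous.coeff_eq_zero (IsHomogeneous.sum _ _ 1 fun j _ => (isHomogeneous_X k j).C_mul _) he]
  have hq0 : q ≠ 0 := fun h => hℓ0 (by rw [hℓeq]; simp [h])
  obtain ⟨M, S, hM, hS, hzero⟩ := exists_adapted (k := k) (n := 2) (by norm_num) (Submodule.span k {q})
  rw [finrank_span_singleton hq0] at hS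
  obtain ⟨i0, rfl⟩ := Finset.card_eq_one.1 hS
  refine ⟨M, hM, cut {i0}, sum_cut _, fun h => ?_, fun e he => ?_⟩
  · have := congrFun h i0
    simp [cut] at this
  have hc : (formPoly (move M a)).coeff e.1 ≠ 0 := by
    rw [coeff_formPoly]
    exact mul_ne_zero (multinomial_ne_zero (Nat.cast_ne_zero.2 (Nat.factorial_ne_zero d)) e) he
  obtain ⟨G, hG⟩ := hdvd
  have hl' : subst M.transpose ℓ = C (M.transpose.mulVec q i0) * X i0 := by
    rw [hℓeq, map_sum]
    simp only [map_mul, MvPolynomial.algHom_C, subst_X, MvPolynomial.algebraMap_eq, Finset.mul_sum]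
    rw [Finset.sum_comm, Finset.sum_eq_single i0]
    · simp only [Matrix.mulVec, dotProduct, map_sum, Finset.sum_mul, map_mul, Matrix.transpose_apply]
      exact Finset.sum_congr rfl fun j _ => by ring
    · intro l _ hl
      have h0 := hzero q (Submodule.subset_span rfl) l (by simpa using hl)
      simp only [Matrix.mulVec, dotProduct] at h0
      rw [show (∑ x, C (q x) * (C (M.transpose l x) * X l) : MvPolynomial (Fin 2) k) =
        C (∑ x, M.transpose l x * q x) * X l by
          rw [map_sum, Finset.sum_mul]; exact Finset.sum_congr rfl fun x _ => by rw [map_mul]; ring, h0]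
      simp
    · simp
  rw [formPoly_move, hG, map_mul, map_pow, hl', mul_pow, ← map_pow, mul_assoc, coeff_C_mul, X_pow_eq_monomial,
    coeff_monomial_mul'] at hc
  rw [weight_cut, Finset.sum_singleton, Finset.card_singleton]
  have hle : m ≤ e.1 i0 := by
    by_contra hlt
    refine hc ?_
    rw [if_neg (fun hh => hlt (Finsupp.single_le_iff.1 hh)), mul_zero]
  omega

end

end Groth.Agent.H20Forms
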