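import Mathlib.RingTheory.Valuation.LocalSubring
import Mathlib.FieldTheory.IsAlgClosed.Basic
import Mathlib.RingTheory.Polynomial.Basic
import Mathlib.RingTheory.PrincipalIdealDomain

/-!
Extension of homomorphisms into an algebraically closed field to places of a field.
-/

set_option autoImplicit false

universe u v

namespace Groth.Agent.H20Forms

noncomputable section

variable {k : Type u} [Field k] [IsAlgClosed k] {K : Type v} [Field K] [Algebra k K]

/-- A subalgebra of `K × k` which is a graph of a partial map. -/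
def IsGraph (G : Subalgebra k (K × k)) : Prop := ∀ c : k, ((0 : K), c) ∈ G → c = 0

theorem exists_maximal_graph {G₀ : Subalgebra k (K × k)} (h : IsGraph G₀) :
    ∃ G : Subalgebra k (K × k), G₀ ≤ G ∧ Maximal IsGraph G := by
  refine zorn_le_nonempty₀ {G | IsGraph G} ?_ G₀ h
  intro c hc hchain y hy
  haveI : Nonempty c := ⟨⟨y, hy⟩⟩
  refine ⟨⨆ G : c, (G : Subalgebra k (K × k)), fun r hr => ?_, fun G hG => le_iSup (fun G : c => (G : Subalgebra k (K × k))) ⟨G, hG⟩⟩
  have hdir : Directed (· ≤ ·) fun G : c => (G : Subalgebra k (K × k)) := hchain.directed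
  have hr' : ((0 : K), r) ∈ ((⨆ G : c, (G : Subalgebra k (K × k)) : Subalgebra k (K × k)) : Set (K × k)) := hr
  rw [Subalgebra.coe_iSup_of_directed hdir, Set.mem_iUnion] at hr'
  obtain ⟨G, hG⟩ := hr'
  exact hc G.2 r hG

/-- A homomorphism from a subalgebra to an algebraically closed field extends to a place. -/
theorem exists_place (B : Subalgebra k K) (φ : B →ₐ[k] k) :
    ∃ (V : ValuationSubring K) (ψ : V →+* k), (∀ b : B, ∃ h : (b : K) ∈ V, ψ ⟨b, h⟩ = φ b) ∧
      RingHom.ker ψ = IsLocalRing.maximalIdeal V ∧ ∀ c : k, ∃ h : algebraMap k K c ∈ V, ψ ⟨_, h⟩ = c := by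
  classical
  let G₀ : Subalgebra k (K × k) := (B.val.prod φ).range
  have hG₀ : IsGraph G₀ := by
    rintro c ⟨b, hb⟩
    have h1 : (b : K) = 0 := congrArg Prod.fst hb
    have h2 : φ b = c := congrArg Prod.snd hb
    rw [← h2, show b = 0 from Subtype.ext h1, map_zero]
  obtain ⟨G, hle, hmax⟩ := exists_maximal_graph hG₀
  have huniq : ∀ {v : K} {c c' : k}, (v, c) ∈ G → (v, c') ∈ G → c = c' := fun {v c c'} h h' => by
    have := G.sub_mem h h'
    rw [Prod.mk_sub_mk, sub_self] at this
    exact sub_eq_zero.1 (hmax.prop _ this)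
  let S : Subring K := G.toSubring.map (RingHom.fst K k)
  have hS : ∀ {v : K}, v ∈ S ↔ ∃ c, (v, c) ∈ G := fun {v} =>
    ⟨fun ⟨⟨w, c⟩, hw, e⟩ => ⟨c, by cases e; exact hw⟩, fun ⟨c, hc⟩ => ⟨(v, c), hc, rfl⟩⟩
  have hex : ∀ v : S, ∃ c, ((v : K), c) ∈ G := fun v => hS.1 v.2
  choose f hf using hex
  let ψ : S →+* k :=
    { toFun := f
      map_one' := huniq (hf 1) G.one_mem
      map_mul' := fun a b => huniq (hf (a * b)) (G.mul_mem (hf a) (hf b))
      map_zero' := huniq (hf 0) G.zero_mem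
      map_add' := fun a b => huniq (hf (a + b)) (G.add_mem (hf a) (hf b)) }
  have halg : ∀ c : k, ∃ h : algebraMap k K c ∈ S, ψ ⟨_, h⟩ = c := fun c => by
    have hc : (algebraMap k K c, c) ∈ G := G.algebraMap_mem c
    exact ⟨hS.2 ⟨c, hc⟩, huniq (hf _) hc⟩
  have hsurj : Function.Surjective ψ := fun c => ⟨_, (halg c).2⟩
  -- a relation with constant reduction one for every element outside
  have hrel : ∀ x : K, x ∉ S → ∃ p : Polynomial S, p.eval₂ S.subtype x = 0 ∧ p.map ψ = 1 := by
    intro x hx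
    let J : Ideal (Polynomial k) := (RingHom.ker (Polynomial.eval₂RingHom S.subtype x)).map (Polynomial.mapRingHom ψ)
    suffices hJ : J = ⊤ by
      obtain ⟨p, hp, hp1⟩ := (Ideal.mem_map_iff_of_surjective _ (Polynomial.map_surjective ψ hsurj)).1
        (hJ ▸ Submodule.mem_top : (1 : Polynomial k) ∈ J)
      exact ⟨p, hp, hp1⟩
    by_contra hJ
    have hg : ∃ c : k, ∀ q ∈ J, q.eval c = 0 := by
      obtain ⟨g, hg⟩ := (IsPrincipalIdealRing.principal J).principal
      by_cases hg0 : g = 0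
      · refine ⟨0, fun q hq => ?_⟩
        rw [hg, hg0] at hq
        simp only [Submodule.span_zero_singleton, Submodule.mem_bot] at hq
        rw [hq, Polynomial.eval_zero]
      · have hdeg : g.degree ≠ 0 := fun h => hJ (by
          rw [hg]
          exact Ideal.span_singleton_eq_top.2 (Polynomial.isUnit_iff_degree_eq_zero.2 h))
        obtain ⟨c, hc⟩ := IsAlgClosed.exists_root g hdeg
        refine ⟨c, fun q hq => ?_⟩
        rw [hg] at hq
        obtain ⟨r, rfl⟩ := Ideal.mem_span_singleton'.1 hq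
        rw [Polynomial.eval_mul, hc, mul_zero]
    obtain ⟨c, hc⟩ := hg
    let Φ : Polynomial S →+* K × k := (Polynomial.eval₂RingHom S.subtype x).prod
      ((Polynomial.evalRingHom c).comp (Polynomial.mapRingHom ψ))
    let G' : Subalgebra k (K × k) :=
      { toSubsemiring := Φ.rangeS
        algebraMap_mem' := fun r => ⟨Polynomial.C ⟨_, (halg r).1⟩, Prod.ext (by simp [Φ]) (by simp [Φ, (halg r).2])⟩ }
    have hG' : IsGraph G' := by
      rintro r ⟨p, hp⟩
      have h1 : p.eval₂ S.subtype x = 0 := congrArg Prod.fst hp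
      have h2 : (p.map ψ).eval c = r := congrArg Prod.snd hp
      rw [← h2]
      exact hc _ (Ideal.mem_map_of_mem (Polynomial.mapRingHom ψ) h1)
    have hGle : G ≤ G' := fun ⟨v, r⟩ hv =>
      ⟨Polynomial.C ⟨v, hS.2 ⟨r, hv⟩⟩, Prod.ext (by simp [Φ]) (by simp [Φ, ψ, huniq (hf ⟨v, hS.2 ⟨r, hv⟩⟩) hv])⟩
    exact hx (hS.2 ⟨c, hmax.le_of_ge hG' hGle ⟨Polynomial.X, Prod.ext (by simp [Φ]) (by simp [Φ])⟩⟩)
  -- elements with non-zero reduction are units
  have hunit : ∀ s : S, ψ s ≠ 0 → IsUnit s := by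
    intro s hs
    have hs0 : (s : K) ≠ 0 := fun h => hs (by rw [show s = 0 from Subtype.ext h, map_zero])
    by_cases hinv : (s : K)⁻¹ ∈ S
    · exact IsUnit.of_mul_eq_one ⟨_, hinv⟩ (Subtype.ext (mul_inv_cancel₀ hs0))
    obtain ⟨p, hp, hp1⟩ := hrel _ hinv
    exfalso
    have hco : ∀ i, ψ (p.coeff i) = if i = 0 then 1 else 0 := fun i => by
      rw [← Polynomial.coeff_map, hp1, Polynomial.coeff_one]
    have h0 : (∑ i ∈ Finset.range (p.natDegree + 1), p.coeff i * s ^ (p.natDegree - i) : S) = 0 := by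
      apply Subtype.ext
      rw [Polynomial.eval₂_eq_sum_range] at hp
      have := congrArg ((s : K) ^ p.natDegree * ·) hp
      simp only [mul_zero, Finset.mul_sum] at this
      push_cast
      rw [← this]
      refine Finset.sum_congr rfl fun i hi => ?_
      rw [inv_pow, pow_sub₀ _ hs0 (Nat.lt_succ_iff.1 (Finset.mem_range.1 hi))]
      show ((p.coeff i : S) : K) * _ = (s : K) ^ p.natDegree * (((p.coeff i : S) : K) * _)
      ring
    have := congrArg ψ h0
    rw [map_sum, Finset.sum_eq_single 0] at this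
    · rw [map_mul, hco, if_pos rfl, one_mul, map_pow, map_zero] at this
      exact hs (pow_eq_zero_iff'.1 this).1
    · intro i _ hi
      rw [map_mul, hco, if_neg hi, zero_mul]
    · simp
  haveI hloc : IsLocalRing S := IsLocalRing.of_nonunits_add fun a b ha hb hab => by
    have ha0 : ψ a = 0 := by_contra fun h => ha (hunit a h)
    have hb0 : ψ b = 0 := by_contra fun h => hb (hunit b h)
    exact (hab.map ψ).ne_zero (by rw [map_add, ha0, hb0, add_zero])
  obtain ⟨V, hV⟩ := LocalSubring.exists_le_valuationSubring (@LocalSubring.mk K _ S hloc)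
  have heq : ∀ x : K, x ∈ V → x ∈ S := by
    intro x hx
    by_contra hxS
    obtain ⟨p, hp, hp1⟩ := hrel x hxS
    obtain ⟨hsub, hlh⟩ := hV
    let i : S →+* V := Subring.inclusion hsub
    haveI : IsLocalHom i := hlh
    have hm : ∀ s : S, ψ s = 0 → i s ∈ IsLocalRing.maximalIdeal V := fun s hs h =>
      (((isUnit_map_iff i s).1 h).map ψ).ne_zero hs
    have h0 : ∑ j ∈ Finset.range (p.natDegree + 1), i (p.coeff j) * (⟨x, hx⟩ : V) ^ j = 0 := by
      apply Subtype.ext
      rw [Polynomial.eval₂_eq_sum_range] at hp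
      push_cast
      exact hp
    have hco : ∀ j, ψ (p.coeff j) = if j = 0 then 1 else 0 := fun j => by
      rw [← Polynomial.coeff_map, hp1, Polynomial.coeff_one]
    rw [Finset.sum_range_succ', pow_zero, mul_one] at h0
    have h1 : i (p.coeff 0) ∈ IsLocalRing.maximalIdeal V := by
      rw [show i (p.coeff 0) = -∑ j ∈ Finset.range p.natDegree, i (p.coeff (j + 1)) * (⟨x, hx⟩ : V) ^ (j + 1) from
        eq_neg_of_add_eq_zero_right h0]
      exact neg_mem (sum_mem fun j _ => Ideal.mul_mem_right _ _ (hm _ (by rw [hco, if_neg (Nat.succ_ne_zero j)])))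
    exact h1 ((hunit (p.coeff 0) (by rw [hco, if_pos rfl]; exact one_ne_zero)).map i)
  let j : V →+* S :=
    { toFun := fun v => ⟨v, heq v v.2⟩, map_one' := rfl, map_mul' := fun _ _ => rfl, map_zero' := rfl, map_add' := fun _ _ => rfl }
  refine ⟨V, ψ.comp j, fun b => ?_, ?_, fun c => ⟨hV.1 (halg c).1, (halg c).2⟩⟩
  · have hb : ((b : K), φ b) ∈ G := hle ⟨b, rfl⟩
    exact ⟨hV.1 (hS.2 ⟨_, hb⟩), huniq (hf _) hb⟩
  · have hs : Function.Surjective (ψ.comp j) := fun c => ⟨⟨_, hV.1 (halg c).1⟩, (halg c).2⟩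
    exact IsLocalRing.eq_maximalIdeal (RingHom.ker_isMaximal_of_surjective _ hs)

end

end Groth.Agent.H20Forms
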