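import Groth.Agent.H20Forms.Basic

/-!
One-parameter diagonal subgroups acting on forms: limits, instability.
-/

set_option autoImplicit false

universe u

open MvPolynomial CoordGrp HopfRep

namespace Groth.Agent.H20Forms

noncomputable section

variable {k : Type u} [Field k] {n d : ℕ}

theorem move_diagonal (D : Fin n → k) (a : FormIdx n d → k) (m : FormIdx n d) :
    move (Matrix.diagonal D) a m = (∏ i, D i ^ m.1 i) * a m := by
  show pair a (subst (Matrix.diagonal D) (monomial m.1 1)) = _
  have hX : ∀ i, subst (Matrix.diagonal D) (X i) = C (D i) * X i := fun i => by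
    rw [subst_X, Finset.sum_eq_single i] <;> simp +contextual [Matrix.diagonal_apply]
  have h : subst (Matrix.diagonal D) (monomial m.1 1) = (∏ i, D i ^ m.1 i) • monomial m.1 (1 : k) := by
    rw [monomial_eq, map_one, one_mul, Finsupp.prod_fintype _ _ fun i => pow_zero _, map_prod]
    simp only [map_pow, hX, mul_pow, Finset.prod_mul_distrib, MvPolynomial.smul_eq_C_mul, map_prod]
  rw [h, map_smul, pair_monomial, smul_eq_mul]

/-- The weight of a monomial for the diagonal subgroup with weights `r`. -/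
def weight (r : Fin n → ℤ) (m : FormIdx n d) : ℤ := ∑ i, r i * (m.1 i : ℤ)

theorem prod_zpow_weight (r : Fin n → ℤ) (t : k) (ht : t ≠ 0) (m : FormIdx n d) :
    ∏ i, (t ^ r i) ^ m.1 i = t ^ weight r m := by
  rw [weight, ← Finset.prod_congr rfl fun i _ => (by rw [zpow_mul, zpow_natCast] :
    t ^ (r i * (m.1 i : ℤ)) = (t ^ r i) ^ m.1 i)]
  induction (Finset.univ : Finset (Fin n)) using Finset.induction_on with
  | empty => simp
  | @insert i s hi ih => rw [Finset.prod_insert hi, Finset.sum_insert hi, zpow_add₀ ht, ih]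

/-- The part of weight zero. -/
def zeroPart (r : Fin n → ℤ) (a : FormIdx n d → k) : FormIdx n d → k :=
  fun m => if weight r m = 0 then a m else 0

/-- A function vanishing on the torus orbit of `a` vanishes at its limit. -/
theorem eval_zeroPart [Infinite k] (r : Fin n → ℤ) (a : FormIdx n d → k) (hw : ∀ m, a m ≠ 0 → 0 ≤ weight r m)
    (f : FormRing k n d) (c : k) (h : ∀ t : k, t ≠ 0 → eval (move (Matrix.diagonal fun i => t ^ r i) a) f = c) :
    eval (zeroPart r a) f = c := by
  let Q : Polynomial k := MvPolynomial.aeval (fun m => Polynomial.C (a m) * Polynomial.X ^ (weight r m).toNat) f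
  have hQ : ∀ t : k, t ≠ 0 → Q.eval t = c := fun t ht => by
    refine Eq.trans ?_ (h t ht)
    show Polynomial.aeval t (MvPolynomial.aeval _ f) = _
    rw [← AlgHom.comp_apply, MvPolynomial.comp_aeval, MvPolynomial.aeval_eq_eval]
    congr 2
    funext m
    rw [move_diagonal, prod_zpow_weight r t ht]
    simp only [map_mul, Polynomial.aeval_C, map_pow, Polynomial.aeval_X, Algebra.algebraMap_self, RingHom.id_apply]
    by_cases ha : a m = 0
    · rw [ha, zero_mul, mul_zero]
    · rw [← zpow_natCast, Int.toNat_of_nonneg (hw m ha), mul_comm]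
  have hQc : Q = Polynomial.C c := by
    refine Polynomial.eq_of_infinite_eval_eq _ _ (Set.Infinite.mono (fun t (ht : t ≠ 0) => ?_)
      (Set.Finite.infinite_compl (Set.finite_singleton (0 : k))))
    show Q.eval t = (Polynomial.C c).eval t
    rw [hQ t ht, Polynomial.eval_C]
  have h0 : Polynomial.aeval (0 : k) Q = c := by rw [hQc, Polynomial.aeval_C, Algebra.algebraMap_self, RingHom.id_apply]
  refine Eq.trans ?_ h0
  show _ = Polynomial.aeval (0 : k) (MvPolynomial.aeval _ f)
  rw [← AlgHom.comp_apply, MvPolynomial.comp_aeval, MvPolynomial.aeval_eq_eval]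
  congr 2
  funext m
  simp only [map_mul, Polynomial.aeval_C, map_pow, Polynomial.aeval_X, Algebra.algebraMap_self, RingHom.id_apply, zeroPart]
  by_cases ha : a m = 0
  · simp [ha]
  · have := hw m ha
    by_cases h0 : weight r m = 0
    · simp [h0]
    · rw [if_neg h0, zero_pow (by omega), mul_zero]

variable [IsAlgClosed k] {A : Type u} [CommRing A] [HopfAlgebra k A] [Algebra.FiniteType k A] (φ : Mat n k →ₐc[k] A)

/-- Destabilising one-parameter subgroup: a limit exists. -/
theorem not_isStablePt_of_weights (r : Fin n → ℤ) (hr : r ≠ 0)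
    (hg : ∀ t : k, t ≠ 0 → ∃ g : A →ₐ[k] k, matOf φ g = Matrix.diagonal fun i => t ^ r i)
    (g₀ : A →ₐ[k] k) (a : FormIdx n d → k) (hw : ∀ m, move (matOf φ g₀) a m ≠ 0 → 0 ≤ weight r m) :
    ¬ @GLin.IsStablePt k _ A _ _ (FormRing k n d) _ _ (act d φ) (isCoactAlg_act φ) (GLin.vecPt k _ a) := by
  letI := act d φ
  haveI := isCoactAlg_act (d := d) φ
  rintro ⟨hclosed, hfin⟩
  set b := move (matOf φ g₀) a with hb
  set y := zeroPart r b with hy
  have hab : GLin.InOrbitClosure k A (GLin.vecPt k _ a) (GLin.vecPt k _ b : FormRing k n d →ₐ[k] k) :=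
    H20Comod.Stability.inOrbitClosure_of_exists ⟨g₀, (actPt_vecPt φ g₀ a).symm⟩
  have hby : GLin.InOrbitClosure k A (GLin.vecPt k _ b) (GLin.vecPt k _ y : FormRing k n d →ₐ[k] k) := fun f hf => by
    rw [RingHom.mem_ker] at hf ⊢
    rw [MvPolynomial.aeval_eq_eval]
    refine eval_zeroPart r b hw f 0 fun t ht => ?_
    obtain ⟨g, hgt⟩ := hg t ht
    rw [← hgt, ← MvPolynomial.aeval_eq_eval]
    refine (AlgHom.congr_fun (actPt_vecPt φ g b) f).symm.trans ?_
    show g (GLin.orbitHom k A _ f) = 0
    rw [hf, map_zero]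
  obtain ⟨g, hg1⟩ := H20Comod.exists_actPt_eq_of_isClosedOrbit hclosed (H20Comod.Stability.inOrbitClosure_trans hab hby)
  have hfy : H20Comod.Stability.FinStab A (GLin.vecPt k _ y : FormRing k n d →ₐ[k] k) :=
    hg1 ▸ H20Comod.Stability.finStab_actPt ((H20Comod.Stability.hasFiniteStab_iff _).1 hfin) g
  obtain ⟨i, hi⟩ := Function.ne_iff.1 hr
  refine Set.Infinite.mono ?_ (Set.Finite.infinite_compl (Set.finite_singleton (0 : k))) (hfy.image fun g => matOf φ g i i)
  intro s (hs : s ≠ 0)
  obtain ⟨t, ht0, ht⟩ : ∃ t : k, t ≠ 0 ∧ t ^ r i = s := by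
    obtain ⟨t, ht⟩ := IsAlgClosed.exists_pow_nat_eq (if 0 ≤ r i then s else s⁻¹) (Int.natAbs_pos.2 hi)
    have ht0 : t ≠ 0 := fun h => by
      rw [h, zero_pow (Int.natAbs_pos.2 hi).ne'] at ht
      split_ifs at ht
      · exact hs ht.symm
      · exact inv_ne_zero hs ht.symm
    refine ⟨t, ht0, ?_⟩
    rw [← zpow_natCast] at ht
    by_cases h : 0 ≤ r i
    · rwa [if_pos h, Int.natAbs_of_nonneg h] at ht
    · rw [if_neg h, Int.ofNat_natAbs_of_nonpos (by omega), zpow_neg, inv_inj] at ht
      exact ht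
  obtain ⟨g, hgt⟩ := hg t ht0
  refine ⟨g, ?_, by show matOf φ g i i = s; rw [hgt, Matrix.diagonal_apply_eq, ht]⟩
  show GLin.actPt k g (GLin.vecPt k _ y) = GLin.vecPt k _ y
  rw [actPt_vecPt, hgt]
  congr 1
  funext m
  rw [move_diagonal, prod_zpow_weight r t ht0, hy, zeroPart]
  split_ifs with h
  · rw [h, zpow_zero, one_mul]
  · rw [mul_zero]

omit [IsAlgClosed k] [Algebra.FiniteType k A] in
/-- Destabilising one-parameter subgroup: the limit is zero. -/
theorem isNullform_of_weights [Infinite k] (r : Fin n → ℤ)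
    (hg : ∀ t : k, t ≠ 0 → ∃ g : A →ₐ[k] k, matOf φ g = Matrix.diagonal fun i => t ^ r i)
    (g₀ : A →ₐ[k] k) (a : FormIdx n d → k) (hw : ∀ m, move (matOf φ g₀) a m ≠ 0 → 0 < weight r m) :
    @GLin.IsNullform k _ A _ _ (FormIdx n d) (act d φ) (isCoactAlg_act φ) a := by
  letI := act d φ
  haveI := isCoactAlg_act (d := d) φ
  intro F hF N hN hhom
  have hinv : ∀ (g : A →ₐ[k] k) (b : FormIdx n d → k), eval (move (matOf φ g) b) F = eval b F := fun g b => by
    rw [← MvPolynomial.aeval_eq_eval, ← MvPolynomial.aeval_eq_eval]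
    refine (AlgHom.congr_fun (actPt_vecPt φ g b) F).symm.trans ?_
    show g (Algebra.TensorProduct.lid k A (Algebra.TensorProduct.map (GLin.vecPt k _ b) (AlgHom.id k A)
      (HopfRep.Comod.coact (k := k) (A := A) F))) = _
    rw [(GLin.mem_invariants_iff k A _ F).1 hF]
    simp
  have h0 := eval_zeroPart r (move (matOf φ g₀) a) (fun m hm => (hw m hm).le) F (eval a F) fun t ht => by
    obtain ⟨g, hgt⟩ := hg t ht
    rw [← hgt, hinv, hinv]
  have hz : zeroPart r (move (matOf φ g₀) a) = fun _ => 0 := funext fun m => by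
    rw [zeroPart]
    split_ifs with h
    · by_contra hne
      exact absurd (hw m hne) (by omega)
    · rfl
  rw [← h0, hz]
  show eval (0 : FormIdx n d → k) F = 0
  rw [MvPolynomial.eval_zero]
  exact hhom.coeff_eq_zero (by simp; omega)

theorem exists_slPt_diag (r : Fin n → ℤ) (hr : ∑ i, r i = 0) (t : k) (ht : t ≠ 0) :
    ∃ g : SLn n k →ₐ[k] k, matOf (slHom k n) g = Matrix.diagonal fun i => t ^ r i := by
  refine ⟨SLn.pt n k (Matrix.diagonal fun i => t ^ r i) ?_, matOf_slPt _ _⟩
  rw [Matrix.det_diagonal]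
  have : ∀ s : Finset (Fin n), ∏ i ∈ s, t ^ r i = t ^ ∑ i ∈ s, r i := fun s => by
    induction s using Finset.induction_on with
    | empty => simp
    | @insert i s hi ih => rw [Finset.prod_insert hi, Finset.sum_insert hi, zpow_add₀ ht, ih]
  rw [this, hr, zpow_zero]

end

end Groth.Agent.H20Forms
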